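import Groth.Agent.Lib.Helper13.PushAcyclic
import Groth.Agent.Lib.Helper13.BaseChangeVanish
import Groth.Agent.Lib.Helper7.PushLinear
import Groth.Agent.Lib.Helper3.QCPush

/-!
# Naturality of the degenerate Leray isomorphism (helper2)

`extEquivOfAdj` (helper13) is natural in the second variable; hence so is
`HEquivPushOfVanish : H^p(X, F) ≃ H^p(Y, f_* F)`; for an affine morphism of schemes this gives an
`A`-linear equivalence `H^p(X, M) ≃ H^p(S, h_* M)` natural in the quasi-coherent module `M`.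
-/

set_option autoImplicit false
universe w w' v v' u u'
open CategoryTheory CategoryTheory.Limits Opposite CategoryTheory.Abelian

noncomputable section

namespace Groth.Agent.Lib.Helper2.AffPush

open Groth.Agent.Lib.Helper13.ExtTransfer Groth.Agent.Lib.Helper13.ExtPresheaf

section Abstract

variable {𝒜 : Type u} [Category.{v} 𝒜] [Abelian 𝒜] [HasExt.{w} 𝒜] [HasInjectiveResolutions 𝒜]
  {ℬ : Type u'} [Category.{v'} ℬ] [Abelian ℬ] [HasExt.{w'} ℬ]
  {L : ℬ ⥤ 𝒜} {Φ : 𝒜 ⥤ ℬ} (adj : L ⊣ Φ) [Φ.Additive] [L.Additive] [PreservesFiniteLimits Φ]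

/-- a lift of `g` to the chosen injective resolutions. -/
def liftHom {F G : 𝒜} (g : F ⟶ G) :
    InjectiveResolution.Hom (injectiveResolution F) (injectiveResolution G) g where
  hom := InjectiveResolution.desc g (injectiveResolution G) (injectiveResolution F)
  ι_f_zero_comp_hom_f_zero :=
    congrArg (fun t => t.f 0)
      (InjectiveResolution.desc_commutes g (injectiveResolution G) (injectiveResolution F))

/-- the image under `Φ` of a lift. -/
def mapResHom {F G : 𝒜} (g : F ⟶ G)
    (hinjF : ∀ n, Injective (Φ.obj ((injectiveResolution F).cocomplex.X n)))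
    (hvanF : ∀ n, IsZero ((Φ.rightDerived (n + 1)).obj F))
    (hinjG : ∀ n, Injective (Φ.obj ((injectiveResolution G).cocomplex.X n)))
    (hvanG : ∀ n, IsZero ((Φ.rightDerived (n + 1)).obj G)) :
    InjectiveResolution.Hom (mapRes Φ (injectiveResolution F) hinjF hvanF)
      (mapRes Φ (injectiveResolution G) hinjG hvanG) (Φ.map g) where
  hom := (Φ.mapHomologicalComplex _).map (liftHom g).hom
  ι_f_zero_comp_hom_f_zero := by
    have h1 : (mapRes Φ (injectiveResolution F) hinjF hvanF).ι ≫
        (Φ.mapHomologicalComplex _).map (liftHom g).hom =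
        (CochainComplex.single₀ ℬ).map (Φ.map g) ≫
          (mapRes Φ (injectiveResolution G) hinjG hvanG).ι := by
      change ((HomologicalComplex.singleMapHomologicalComplex Φ (ComplexShape.up ℕ) 0).inv.app F ≫
          (Φ.mapHomologicalComplex _).map (injectiveResolution F).ι) ≫
          (Φ.mapHomologicalComplex _).map (liftHom g).hom =
        (CochainComplex.single₀ ℬ).map (Φ.map g) ≫
          ((HomologicalComplex.singleMapHomologicalComplex Φ (ComplexShape.up ℕ) 0).inv.app G ≫
          (Φ.mapHomologicalComplex _).map (injectiveResolution G).ι)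
      rw [Category.assoc, ← Functor.map_comp, InjectiveResolution.Hom.ι_comp_hom,
        Functor.map_comp, ← Category.assoc, ← Category.assoc]
      congr 1
      exact ((HomologicalComplex.singleMapHomologicalComplex Φ (ComplexShape.up ℕ) 0).inv.naturality g).symm
    exact congrArg (fun t => t.f 0) h1

lemma extEquivOfAdj_naturality (B : ℬ) {F G : 𝒜} (g : F ⟶ G)
    (hinjF : ∀ n, Injective (Φ.obj ((injectiveResolution F).cocomplex.X n)))
    (hvanF : ∀ n, IsZero ((Φ.rightDerived (n + 1)).obj F))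
    (hinjG : ∀ n, Injective (Φ.obj ((injectiveResolution G).cocomplex.X n)))
    (hvanG : ∀ n, IsZero ((Φ.rightDerived (n + 1)).obj G)) (n : ℕ)
    (x : Ext.{w} (L.obj B) F n) :
    extEquivOfAdj adj B G hinjG hvanG n (x.comp (Ext.mk₀ g) (add_zero n)) =
      (extEquivOfAdj adj B F hinjF hvanF n x).comp (Ext.mk₀ (Φ.map g)) (add_zero n) := by
  obtain ⟨f, hf, rfl⟩ := (injectiveResolution F).extMk_surjective x (n + 1) rfl
  rw [InjectiveResolution.extMk_comp_mk₀ f (n + 1) rfl hf (liftHom g)]
  change HomCxEquiv.fwd _ n _ = (HomCxEquiv.fwd _ n _).comp _ _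
  rw [HomCxEquiv.fwd_extMk, HomCxEquiv.fwd_extMk,
    InjectiveResolution.extMk_comp_mk₀ _ (n + 1) rfl _
      (mapResHom g hinjF hvanF hinjG hvanG)]
  apply extMk_congr
  change adj.homEquiv _ _ (f ≫ _) = adj.homEquiv _ _ f ≫ Φ.map _
  rw [Adjunction.homEquiv_naturality_right]

end Abstract

section Top

open Groth.Agent.Lib.Helper13.ExtAdj Groth.Agent.Lib.Helper13.ClosedEmbPush
  Groth.Agent.Lib.Helper13.PushAcyclic Groth.Agent.Lib.Helper13.SiteCohLocal TopologicalSpace

variable {X Y : TopCat.{u}} (f : X ⟶ Y)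

/-- naturality of `HEquivPushOfVanish` in the sheaf. -/
lemma HEquivPushOfVanish_naturality {F F' : CohTop.Ab X} (φ : F ⟶ F')
    (hF : ∀ q : ℕ, IsZero ((CohTop.Rpush f (q + 1)).obj F))
    (hF' : ∀ q : ℕ, IsZero ((CohTop.Rpush f (q + 1)).obj F')) (p : ℕ) (x : CohTop.H F p) :
    HEquivPushOfVanish f F' hF' p (Sheaf.H.map φ p x) =
      Sheaf.H.map ((CohTop.push f).map φ) p (HEquivPushOfVanish f F hF p x) := by
  change extEquivOfAdj (adj f) _ F' _ hF' p ((Ext.mk₀ (pullConstIso f).hom).comp
      (x.comp (Ext.mk₀ φ) (add_zero p)) (zero_add p)) =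
    (extEquivOfAdj (adj f) _ F _ hF p ((Ext.mk₀ (pullConstIso f).hom).comp x (zero_add p))).comp
      (Ext.mk₀ ((CohTop.push f).map φ)) (add_zero p)
  rw [← extEquivOfAdj_naturality (adj f) _ φ (fun _ => push_injective f _) hF
    (fun _ => push_injective f _) hF']
  congr 1
  exact (Ext.comp_assoc _ _ _ (zero_add p) (add_zero p) (by omega)).symm

end Top

section Sch

open AlgebraicGeometry Groth.Agent.Lib.Helper13 Groth.Agent.Lib.Helper7.PushLinear

variable {X S : Scheme.{u}} (h : X ⟶ S) [IsAffineHom h]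

lemma isZero_Rpush_of_affine (M : X.Modules) [M.IsQuasicoherent] (q : ℕ) :
    IsZero ((CohTop.Rpush h.base (q + 1)).obj (Coh.toAb M)) :=
  LocallyZero.isZero_Rpush_of_basis h.base (Coh.toAb M) (q + 1)
    S.affineOpens S.isBasis_affineOpens
    (fun _ hV => AffineVanish.subsingleton_HU_of_isAffineOpen M
      (IsAffineOpen.preimage hV h) q)

/-- `H^p(X, M) ≃ H^p(S, h_* M)` for an affine morphism `h` and quasi-coherent `M`. -/
def pushEquivAff (M : X.Modules) [M.IsQuasicoherent] (p : ℕ) :
    Coh.HH X M p ≃+ Coh.HH S ((Scheme.Modules.pushforward h).obj M) p :=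
  PushAcyclic.HEquivPushOfVanish h.base (Coh.toAb M) (isZero_Rpush_of_affine h M) p

lemma pushEquivAff_naturality {M M' : X.Modules} [M.IsQuasicoherent] [M'.IsQuasicoherent]
    (φ : M ⟶ M') (p : ℕ) (x : Coh.HH X M p) :
    pushEquivAff h M' p (Sheaf.H.map ((SheafOfModules.toSheaf X.ringCatSheaf).map φ) p x) =
      Sheaf.H.map ((SheafOfModules.toSheaf S.ringCatSheaf).map
        ((Scheme.Modules.pushforward h).map φ)) p (pushEquivAff h M p x) :=
  HEquivPushOfVanish_naturality h.base _ _ _ p x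

lemma pushEquivAff_smulAb (M : X.Modules) [M.IsQuasicoherent] (p : ℕ) (a : Coh.Γtop S)
    (x : Coh.HH X M p) :
    pushEquivAff h M p (Sheaf.H.map (Coh.smulAb M (h.appTop.hom a)) p x) =
      Sheaf.H.map (Coh.smulAb ((Scheme.Modules.pushforward h).obj M) a) p
        (pushEquivAff h M p x) := by
  rw [smulAb_push]
  exact HEquivPushOfVanish_naturality h.base (Coh.smulAb M (h.appTop.hom a)) _ _ p x

variable (A : Type u) [CommRing A] [X.Over (Spec (CommRingCat.of A))]
  [S.Over (Spec (CommRingCat.of A))]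

omit [IsAffineHom h] in
lemma toGlobal_comp' (hXS : X ↘ Spec (CommRingCat.of A) = h ≫ (S ↘ Spec (CommRingCat.of A)))
    (c : A) :
    Coh.toGlobal (X ↘ Spec (CommRingCat.of A)) c =
      h.appTop.hom (Coh.toGlobal (S ↘ Spec (CommRingCat.of A)) c) := by
  unfold Coh.toGlobal
  rw [hXS, Scheme.Hom.comp_appTop]
  rfl

/-- the `A`-linear comparison `H^p(X, M) ≃ H^p(S, h_* M)`. -/
def pushLinearEquivAff (M : X.Modules) [M.IsQuasicoherent]
    (hXS : X ↘ Spec (CommRingCat.of A) = h ≫ (S ↘ Spec (CommRingCat.of A))) (p : ℕ) :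
    Coh.HH X M p ≃ₗ[A] Coh.HH S ((Scheme.Modules.pushforward h).obj M) p :=
  { pushEquivAff h M p with
    map_smul' := fun c x => by
      change pushEquivAff h M p (Sheaf.H.map
          (Coh.smulAb M (Coh.toGlobal (X ↘ Spec (CommRingCat.of A)) c)) p x) =
        Sheaf.H.map (Coh.smulAb ((Scheme.Modules.pushforward h).obj M)
          (Coh.toGlobal (S ↘ Spec (CommRingCat.of A)) c)) p (pushEquivAff h M p x)
      rw [toGlobal_comp' h A hXS c]
      exact pushEquivAff_smulAb h M p _ x }

lemma pushLinearEquivAff_naturality {M M' : X.Modules} [M.IsQuasicoherent] [M'.IsQuasicoherent]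
    (hXS : X ↘ Spec (CommRingCat.of A) = h ≫ (S ↘ Spec (CommRingCat.of A)))
    (φ : M ⟶ M') (p : ℕ) (x : Coh.HH X M p) :
    pushLinearEquivAff h A M' hXS p (Canon.HHlin A φ p x) =
      Canon.HHlin A ((Scheme.Modules.pushforward h).map φ) p (pushLinearEquivAff h A M hXS p x) :=
  pushEquivAff_naturality h φ p x

end Sch

end Groth.Agent.Lib.Helper2.AffPush
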